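import Mathlib

/-!
Symmetric bilinear forms in characteristic two over a perfect field: a non-degenerate form has an
orthonormal family or a family paired by `Fin.rev`, of full size.
-/

set_option autoImplicit false

namespace Cfsg.Agent.Lib.InvolutionTwo

/-- the permutation attached to a type: `Fin.rev` for alternating, the identity otherwise -/
def typePerm {s : ℕ} : Bool → Fin s → Fin s
  | true => Fin.rev
  | false => id

theorem typePerm_involutive {s : ℕ} (ε : Bool) : Function.Involutive (typePerm (s := s) ε) := by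
  cases ε
  · exact fun _ => rfl
  · exact Fin.rev_rev

variable {F W : Type*} [Field F] [AddCommGroup W] [Module F W] [FiniteDimensional F W]
  (φ : LinearMap.BilinForm F W) (hsym : ∀ x y, φ x y = φ y x)

/-- `φ` has trivial radical on `U` -/
def NondegOn (U : Submodule F W) : Prop := ∀ x ∈ U, (∀ y ∈ U, φ x y = 0) → x = 0

theorem exists_pair_eq_one {U : Submodule F W} (hU : NondegOn φ U) {a : W} (ha : a ∈ U) (ha0 : a ≠ 0) :
    ∃ c ∈ U, φ a c = 1 := by
  by_contra h
  push Not at h
  refine ha0 (hU a ha fun y hy => ?_)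
  by_contra hy0
  exact h ((φ a y)⁻¹ • y) (U.smul_mem _ hy) (by rw [map_smul, smul_eq_mul, inv_mul_cancel₀ hy0])

theorem finrank_inf_ker {U : Submodule F W} (ℓ : W →ₗ[F] F) {y : W} (hy : y ∈ U) (h : ℓ y = 1) :
    Module.finrank F ↥(U ⊓ LinearMap.ker ℓ) + 1 = Module.finrank F U := by
  let f : ↥U →ₗ[F] F := ℓ.comp U.subtype
  have hs : Function.Surjective f := fun t => ⟨t • ⟨y, hy⟩, by simp [f, h]⟩
  have h1 := f.finrank_range_add_finrank_ker
  rw [LinearMap.range_eq_top.2 hs, finrank_top, Module.finrank_self] at h1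
  have h2 : LinearMap.ker f = (U ⊓ LinearMap.ker ℓ).comap U.subtype := by
    ext x; simp [f]
  rw [h2, (Submodule.comapSubtypeEquivOfLe inf_le_left).finrank_eq] at h1
  omega

include hsym

theorem nondegOn_inf_ker {U : Submodule F W} (hU : NondegOn φ U) {u : W} (hu : u ∈ U) (h : φ u u = 1) :
    NondegOn φ (U ⊓ LinearMap.ker (φ u)) := by
  intro x hx h'
  refine hU x hx.1 fun y hy => ?_
  have hm : y - φ u y • u ∈ U ⊓ LinearMap.ker (φ u) :=
    ⟨U.sub_mem hy (U.smul_mem _ hu), by simp [h]⟩
  have := h' _ hm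
  rw [map_sub, map_smul, hsym x u, show φ u x = 0 from hx.2, smul_zero, sub_zero] at this
  exact this

theorem exists_paired (n : ℕ) : ∀ U : Submodule F W, Module.finrank F U = n → NondegOn φ U →
    (∀ x ∈ U, φ x x = 0) →
    Even n ∧ ∃ b : Fin n → W, (∀ i, b i ∈ U) ∧ ∀ i j, φ (b i) (b j) = if j = Fin.rev i then 1 else 0 := by
  induction n using Nat.strong_induction_on with
  | _ n ih =>
  intro U hdim hU halt
  rcases Nat.eq_zero_or_pos n with rfl | hpos
  · exact ⟨⟨0, rfl⟩, Fin.elim0, fun i => i.elim0, fun i => i.elim0⟩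
  obtain ⟨a, haU, ha0⟩ := U.ne_bot_iff.1 (by rintro rfl; simp at hdim; omega)
  obtain ⟨c, hcU, hac⟩ := exists_pair_eq_one φ hU haU ha0
  let U₁ := U ⊓ LinearMap.ker (φ a)
  let U₂ := U₁ ⊓ LinearMap.ker (φ c)
  have haU₁ : a ∈ U₁ := ⟨haU, halt a haU⟩
  have hca : φ c a = 1 := by rw [hsym, hac]
  have d1 : Module.finrank F U₁ + 1 = n := hdim ▸ finrank_inf_ker (φ a) hcU hac
  have d2 : Module.finrank F U₂ + 1 = Module.finrank F U₁ := finrank_inf_ker (φ c) haU₁ hca
  have hnd : NondegOn φ U₂ := by
    intro x hx h'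
    refine hU x hx.1.1 fun y hy => ?_
    have hm : y - φ a y • c - φ c y • a ∈ U₂ := by
      refine ⟨⟨U.sub_mem (U.sub_mem hy (U.smul_mem _ hcU)) (U.smul_mem _ haU), ?_⟩, ?_⟩
      · simp [hac, halt a haU]
      · simp [hca, halt c hcU]
    have := h' _ hm
    rw [map_sub, map_sub, map_smul, map_smul, hsym x c, hsym x a, show φ c x = 0 from hx.2,
      show φ a x = 0 from hx.1.2, smul_zero, smul_zero, sub_zero, sub_zero] at this
    exact this
  obtain ⟨k, rfl⟩ : ∃ k, n = k + 2 := ⟨n - 2, by omega⟩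
  obtain ⟨hev, b, hb, hbb⟩ := ih k (by omega) U₂ (by omega) hnd fun x hx => halt x hx.1.1
  have hba : ∀ i, φ a (b i) = 0 := fun i => (hb i).1.2
  have hbc : ∀ i, φ c (b i) = 0 := fun i => (hb i).2
  refine ⟨hev.add even_two, Fin.cons a (Fin.snoc b c), ?_, ?_⟩
  · intro i
    induction i using Fin.cases with
    | zero => simpa using haU
    | succ i =>
      induction i using Fin.lastCases with
      | last => simpa using hcU
      | cast i => simpa using (hb i).1.1
  · have r0 : Fin.rev (0 : Fin (k + 2)) = (Fin.last k).succ := by simp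
    have rl : Fin.rev ((Fin.last k).succ : Fin (k + 2)) = 0 := by simp
    have rm : ∀ i : Fin k, Fin.rev (i.castSucc.succ : Fin (k + 2)) = (Fin.rev i).castSucc.succ := by
      intro i; ext; simp [Fin.val_rev]; omega
    intro i j
    induction i using Fin.cases with
    | zero =>
      induction j using Fin.cases with
      | zero => simp [halt a haU, r0, (Fin.succ_ne_zero _).symm]
      | succ j =>
        induction j using Fin.lastCases with
        | last => simp [hac]
        | cast j => simp [hba, r0, (Fin.castSucc_lt_last j).ne]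
    | succ i =>
      induction i using Fin.lastCases with
      | last =>
        induction j using Fin.cases with
        | zero => simp [hca]
        | succ j =>
          induction j using Fin.lastCases with
          | last => simp [halt c hcU, Fin.succ_ne_zero]
          | cast j => simp [hbc, Fin.succ_ne_zero]
      | cast i =>
        induction j using Fin.cases with
        | zero => simp [hsym (b i) a, hba, rm, (Fin.succ_ne_zero _).symm]
        | succ j =>
          induction j using Fin.lastCases with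
          | last =>
            have e : (Fin.last k).succ ≠ Fin.rev (i.castSucc.succ : Fin (k + 2)) := by
              rw [rm, ne_eq, Fin.succ_inj]
              exact (Fin.castSucc_lt_last _).ne'
            simp only [Fin.cons_succ, Fin.snoc_last, Fin.snoc_castSucc, hsym (b i) c, hbc, if_neg e]
          | cast j => simp [hbb, rm]

variable [CharP F 2] [PerfectRing F 2]

theorem exists_orthonormal (n : ℕ) : ∀ U : Submodule F W, Module.finrank F U = n → NondegOn φ U →
    (n = 0 ∨ ∃ x ∈ U, φ x x ≠ 0) →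
    ∃ b : Fin n → W, (∀ i, b i ∈ U) ∧ ∀ i j, φ (b i) (b j) = if j = i then 1 else 0 := by
  induction n with
  | zero => intro U _ _ _; exact ⟨Fin.elim0, fun i => i.elim0, fun i => i.elim0⟩
  | succ n ih =>
    intro U hdim hU hna
    obtain ⟨x, hx, hxx⟩ := hna.resolve_left (Nat.succ_ne_zero n)
    obtain ⟨t, ht⟩ := surjective_frobenius F 2 (φ x x)⁻¹
    rw [frobenius_def] at ht
    set u₀ := t • x with hu₀def
    have hu₀U : u₀ ∈ U := U.smul_mem _ hx
    have hu₀ : φ u₀ u₀ = 1 := by
      simp only [hu₀def, map_smul, LinearMap.smul_apply, smul_eq_mul]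
      rw [← mul_assoc, ← pow_two, ht, inv_mul_cancel₀ hxx]
    obtain ⟨u, huU, hu, hrec⟩ : ∃ u ∈ U, φ u u = 1 ∧
        (n = 0 ∨ ∃ y ∈ U ⊓ LinearMap.ker (φ u), φ y y ≠ 0) := by
      by_cases h0 : n = 0 ∨ ∃ y ∈ U ⊓ LinearMap.ker (φ u₀), φ y y ≠ 0
      · exact ⟨u₀, hu₀U, hu₀, h0⟩
      push Not at h0
      obtain ⟨hn0, halt⟩ := h0
      set U₀ := U ⊓ LinearMap.ker (φ u₀)
      have hd : Module.finrank F U₀ + 1 = n + 1 := hdim ▸ finrank_inf_ker (φ u₀) hu₀U hu₀
      obtain ⟨k, hk, hk0⟩ := U₀.ne_bot_iff.1 (by intro e; rw [e, finrank_bot] at hd; omega)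
      obtain ⟨k', hk', hkk⟩ := exists_pair_eq_one φ (nondegOn_inf_ker φ hsym hU hu₀U hu₀) hk hk0
      have e1 : φ u₀ k = 0 := hk.2
      have e2 : φ u₀ k' = 0 := hk'.2
      refine ⟨u₀ + k, U.add_mem hu₀U hk.1, ?_, Or.inr ⟨u₀ + k', ⟨U.add_mem hu₀U hk'.1, ?_⟩, ?_⟩⟩
      · simp [hu₀, e1, hsym k u₀, halt k hk]
      · show φ (u₀ + k) (u₀ + k') = 0
        simp [hu₀, e2, hsym k u₀, e1, hkk, CharTwo.add_self_eq_zero]
      · simp [hu₀, e2, hsym k' u₀, halt k' hk']
    have hd : Module.finrank F ↥(U ⊓ LinearMap.ker (φ u)) = n := by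
      have := finrank_inf_ker (φ u) huU hu
      omega
    obtain ⟨b, hb, hbb⟩ := ih _ hd (nondegOn_inf_ker φ hsym hU huU hu) hrec
    refine ⟨Fin.cons u b, ?_, ?_⟩
    · intro i
      induction i using Fin.cases with
      | zero => simpa using huU
      | succ i => simpa using (hb i).1
    · intro i j
      induction i using Fin.cases <;> induction j using Fin.cases
      · simp [hu]
      · simp only [Fin.cons_zero, Fin.cons_succ, Fin.succ_ne_zero, if_false]
        exact (hb _).2
      · simp only [Fin.cons_zero, Fin.cons_succ, (Fin.succ_ne_zero _).symm, if_false]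
        rw [hsym]; exact (hb _).2
      · simp [hbb]

/-- normal families of a non-degenerate form -/
theorem exists_typePerm_family (U : Submodule F W) (hU : NondegOn φ U) :
    ∃ (ε : Bool) (b : Fin (Module.finrank F U) → W), (∀ i, b i ∈ U) ∧
      (∀ i j, φ (b i) (b j) = if j = typePerm ε i then 1 else 0) ∧
      (ε = true → Even (Module.finrank F U)) ∧ (ε = true ↔ ∀ x ∈ U, φ x x = 0) := by
  by_cases h : ∀ x ∈ U, φ x x = 0
  · obtain ⟨he, b, hb, hbb⟩ := exists_paired φ hsym _ U rfl hU h
    exact ⟨true, b, hb, hbb, fun _ => he, iff_of_true rfl h⟩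
  · push Not at h
    obtain ⟨b, hb, hbb⟩ := exists_orthonormal φ hsym _ U rfl hU (Or.inr h)
    refine ⟨false, b, hb, hbb, fun e => absurd e (by simp), iff_of_false (by simp) ?_⟩
    push Not
    exact h

end Cfsg.Agent.Lib.InvolutionTwo
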