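import Mathlib
import Cfsg.Agent.Lib.InvolutionTwo.SymForm

/-!
Involutions of isometry groups in characteristic two: the standard form `x + Σ B(r_{π i}, x) r_i` and
the count of classes.
-/

set_option autoImplicit false

namespace Cfsg.Agent.Lib.InvolutionTwo

variable {F V : Type*} [Field F] [AddCommGroup V] [Module F V] [FiniteDimensional F V]
  {B : LinearMap.BilinForm F V} {s : ℕ} {r : Fin s → V} {ε : Bool}

/-- an independent family spanning a totally isotropic subspace -/
structure IsoFrame (B : LinearMap.BilinForm F V) (r : Fin s → V) : Prop where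
  li : LinearIndependent F r
  orth : ∀ i j, B (r i) (r j) = 0

/-- `x ↦ Σ B(r_{π i}, x) r_i` -/
def nilMap (B : LinearMap.BilinForm F V) (ε : Bool) (r : Fin s → V) : V →ₗ[F] V :=
  ∑ i, (B (r (typePerm ε i))).smulRight (r i)

theorem nilMap_apply (x : V) : nilMap B ε r x = ∑ i, B (r (typePerm ε i)) x • r i := by
  simp [nilMap, LinearMap.sum_apply]

theorem nilMap_eq_zero_of_perp {x : V} (h : ∀ i, B (r i) x = 0) : nilMap B ε r x = 0 := by
  simp [nilMap_apply, h]

theorem IsoFrame.nilMap_mem_perp (h : IsoFrame B r) (x : V) (k : Fin s) :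
    B (r k) (nilMap B ε r x) = 0 := by
  simp [nilMap_apply, map_sum, h.orth]

theorem IsoFrame.nilMap_nilMap (h : IsoFrame B r) (x : V) : nilMap B ε r (nilMap B ε r x) = 0 :=
  nilMap_eq_zero_of_perp (h.nilMap_mem_perp x)

theorem exists_dual (hB : B.Nondegenerate) (hli : LinearIndependent F r) :
    ∃ d : Fin s → V, ∀ i j, B (r i) (d j) = if i = j then 1 else 0 := by
  let ψ : V →ₗ[F] (Fin s → F) := LinearMap.pi fun i => B (r i)
  have hs : Function.Surjective ψ := by
    rw [← LinearMap.range_eq_top, ← Subspace.dualAnnihilator_inj, Submodule.dualAnnihilator_top,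
      eq_bot_iff]
    intro a ha
    rw [Submodule.mem_dualAnnihilator] at ha
    have h0 : ∑ i, a (Pi.single i 1) • r i = 0 := by
      refine hB.1 _ fun y => ?_
      have h1 := ha (ψ y) (LinearMap.mem_range_self ψ y)
      rw [pi_eq_sum_univ' (ψ y), map_sum] at h1
      simp only [map_sum, LinearMap.sum_apply, map_smul, LinearMap.smul_apply, smul_eq_mul]
      rw [← h1]
      exact Finset.sum_congr rfl fun i _ => by simp [ψ, mul_comm]
    rw [Submodule.mem_bot]
    refine (Pi.basisFun F (Fin s)).ext fun i => ?_
    simpa using Fintype.linearIndependent_iff.1 hli _ h0 i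
  choose d hd using fun j : Fin s => hs (Pi.single j 1)
  exact ⟨d, fun i j => (congrFun (hd j) i).trans (by simp [Pi.single_apply])⟩

theorem IsoFrame.two_mul_le (hB : B.Nondegenerate) (h : IsoFrame B r) :
    s + s ≤ Module.finrank F V := by
  obtain ⟨d, hd⟩ := exists_dual hB h.li
  have hli : LinearIndependent F (Sum.elim r d) := by
    rw [Fintype.linearIndependent_iff]
    intro c hc
    rw [Fintype.sum_sum_type] at hc
    simp only [Sum.elim_inl, Sum.elim_inr] at hc
    have hr : ∀ j, c (Sum.inr j) = 0 := fun j => by
      have := congrArg (B (r j)) hc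
      simpa [map_sum, h.orth, hd] using this
    simp only [hr, zero_smul, Finset.sum_const_zero, add_zero] at hc
    rintro (j | j)
    · exact Fintype.linearIndependent_iff.1 h.li _ hc j
    · exact hr j
  simpa using hli.fintype_card_le_finrank

theorem nilMap_dual {d : Fin s → V} (hd : ∀ i j, B (r i) (d j) = if i = j then 1 else 0) (j : Fin s) :
    nilMap B ε r (d j) = r (typePerm ε j) := by
  rw [nilMap_apply, Finset.sum_eq_single (typePerm ε j)]
  · rw [typePerm_involutive ε j, hd, if_pos rfl, one_smul]
  · intro i _ hi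
    rw [hd, if_neg, zero_smul]
    intro e
    exact hi (by rw [← e, typePerm_involutive ε i])
  · simp

theorem range_nilMap (hB : B.Nondegenerate) (hli : LinearIndependent F r) :
    LinearMap.range (nilMap B ε r) = Submodule.span F (Set.range r) := by
  obtain ⟨d, hd⟩ := exists_dual hB hli
  apply le_antisymm
  · rintro _ ⟨x, rfl⟩
    rw [nilMap_apply]
    exact Submodule.sum_mem _ fun i _ => Submodule.smul_mem _ _ (Submodule.subset_span ⟨i, rfl⟩)
  · rw [Submodule.span_le]
    rintro _ ⟨i, rfl⟩
    exact ⟨d (typePerm ε i), by rw [nilMap_dual hd, typePerm_involutive ε i]⟩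

theorem finrank_range_nilMap (hB : B.Nondegenerate) (hli : LinearIndependent F r) :
    Module.finrank F (LinearMap.range (nilMap B ε r)) = s := by
  rw [range_nilMap hB hli, finrank_span_eq_card hli, Fintype.card_fin]

variable [CharP F 2]

omit [FiniteDimensional F V] in
theorem bilin_symm (hA : B.IsAlt) (x y : V) : B x y = B y x := by
  rw [← LinearMap.IsAlt.neg hA y x, CharTwo.neg_eq]

theorem add_self_vec {K M : Type*} [Field K] [CharP K 2] [AddCommGroup M] [Module K M] (x : M) :
    x + x = 0 := by
  rw [← two_smul K x, CharTwo.two_eq_zero, zero_smul]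

theorem nilMap_symm (hA : B.IsAlt) (x y : V) : B (nilMap B ε r x) y = B x (nilMap B ε r y) := by
  rw [nilMap_apply, nilMap_apply, map_sum, map_sum, LinearMap.sum_apply]
  simp only [map_smul, LinearMap.smul_apply, smul_eq_mul]
  rw [← Equiv.sum_comp (Function.Involutive.toPerm _ (typePerm_involutive (s := s) ε))]
  refine Finset.sum_congr rfl fun i _ => ?_
  simp only [Function.Involutive.coe_toPerm, typePerm_involutive ε i]
  rw [bilin_symm hA x (r i), mul_comm]

/-- the involution attached to a frame -/
def invEquiv (B : LinearMap.BilinForm F V) (ε : Bool) (r : Fin s → V) (h : IsoFrame B r) : V ≃ₗ[F] V :=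
  LinearEquiv.ofLinearMap (LinearMap.id + nilMap B ε r) (LinearMap.id + nilMap B ε r)
    (LinearMap.ext fun x => by
      simp only [LinearMap.comp_apply, LinearMap.add_apply, LinearMap.id_apply, map_add,
        h.nilMap_nilMap, add_zero]
      rw [add_assoc, add_self_vec (K := F), add_zero])
    (LinearMap.ext fun x => by
      simp only [LinearMap.comp_apply, LinearMap.add_apply, LinearMap.id_apply, map_add,
        h.nilMap_nilMap, add_zero]
      rw [add_assoc, add_self_vec (K := F), add_zero])

theorem invEquiv_apply (h : IsoFrame B r) (x : V) : invEquiv B ε r h x = x + nilMap B ε r x := rfl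

theorem invEquiv_preserves (hA : B.IsAlt) (h : IsoFrame B r) (x y : V) :
    B (invEquiv B ε r h x) (invEquiv B ε r h y) = B x y := by
  simp only [invEquiv_apply, map_add, LinearMap.add_apply]
  rw [nilMap_symm hA x y, nilMap_symm hA x (nilMap B ε r y), h.nilMap_nilMap, map_zero, add_zero,
    add_assoc, CharTwo.add_self_eq_zero, add_zero]

theorem self_pair_nilMap (hA : B.IsAlt) (x : V) :
    B x (nilMap B ε r x) = ∑ i, B (r (typePerm ε i)) x * B (r i) x := by
  rw [nilMap_apply, map_sum]
  exact Finset.sum_congr rfl fun i _ => by rw [map_smul, smul_eq_mul, bilin_symm hA x (r i)]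

theorem typePerm_true_ne (he : Even s) (i : Fin s) : typePerm true i ≠ i := by
  intro e
  have h : (Fin.rev i).val = i.val := congrArg Fin.val e
  rw [Fin.val_rev] at h
  obtain ⟨k, hk⟩ := he
  omega

/-- type `true` is the alternating one -/
theorem type_iff (hA : B.IsAlt) (hB : B.Nondegenerate) (h : IsoFrame B r) (hs : 1 ≤ s)
    (he : ε = true → Even s) :
    ε = true ↔ ∀ x, B x (x + nilMap B ε r x) = 0 := by
  simp only [map_add, hA.self_eq_zero, zero_add, self_pair_nilMap hA]
  constructor
  · rintro rfl x
    refine Finset.sum_involution (fun i _ => typePerm true i) ?_ ?_ (fun _ _ => Finset.mem_univ _) ?_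
    · intro i _
      rw [typePerm_involutive true i, mul_comm (B (r i) x), CharTwo.add_self_eq_zero]
    · intro i _ _
      exact typePerm_true_ne (he rfl) i
    · intro i _; exact typePerm_involutive true i
  · intro hx
    by_contra hε
    rw [Bool.not_eq_true] at hε
    subst hε
    obtain ⟨d, hd⟩ := exists_dual hB h.li
    have := hx (d ⟨0, hs⟩)
    rw [Finset.sum_eq_single ⟨0, hs⟩ (fun i _ hi => by simp [typePerm, hd, hi]) (by simp)] at this
    simp [typePerm, hd] at this

/-- values of a quadratic form on the frame of an isometric involution -/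
theorem quad_frame (hA : B.IsAlt) (hB : B.Nondegenerate) (hli : LinearIndependent F r)
    {Q : QuadraticForm F V} (hQ : ∀ x y, QuadraticMap.polar ⇑Q x y = B x y)
    (hpres : ∀ x, Q (x + nilMap B ε r x) = Q x) (i : Fin s) :
    Q (r i) = if typePerm ε i = i then 1 else 0 := by
  obtain ⟨d, hd⟩ := exists_dual hB hli
  have h0 := hpres (d (typePerm ε i))
  rw [nilMap_dual hd, typePerm_involutive ε i, QuadraticMap.map_add (⇑Q), hQ, bilin_symm hA, hd] at h0
  have h1 : Q (r i) = if i = typePerm ε i then (1 : F) else 0 := by
    rw [← sub_eq_zero, sub_eq_add_neg, CharTwo.neg_eq]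
    linear_combination h0
  rw [h1]
  exact if_congr eq_comm rfl rfl

theorem quad_sum_orth {Q : QuadraticForm F V} (hQ : ∀ x y, QuadraticMap.polar ⇑Q x y = B x y)
    (h : IsoFrame B r) (a : Fin s → F) (T : Finset (Fin s)) :
    Q (∑ i ∈ T, a i • r i) = ∑ i ∈ T, a i * a i * Q (r i) := by
  induction T using Finset.induction_on with
  | empty => simp
  | insert j T hj ih =>
    rw [Finset.sum_insert hj, Finset.sum_insert hj, QuadraticMap.map_add (⇑Q), QuadraticMap.map_smul,
      ih, hQ, smul_eq_mul]
    simp [map_sum, h.orth]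

/-- the standard involution preserves the quadratic form -/
theorem invEquiv_preserves_quad (hA : B.IsAlt) {Q : QuadraticForm F V}
    (hQ : ∀ x y, QuadraticMap.polar ⇑Q x y = B x y) (h : IsoFrame B r) (he : ε = true → Even s)
    (hval : ∀ i, Q (r i) = if typePerm ε i = i then 1 else 0) (x : V) :
    Q (invEquiv B ε r h x) = Q x := by
  rw [invEquiv_apply, QuadraticMap.map_add (⇑Q), hQ, self_pair_nilMap hA, nilMap_apply,
    quad_sum_orth hQ h, add_assoc, ← Finset.sum_add_distrib]
  refine add_eq_left.2 ?_
  cases ε with
  | false =>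
    refine Finset.sum_eq_zero fun i _ => ?_
    rw [hval]
    simp [typePerm, CharTwo.add_self_eq_zero]
  | true =>
    have h0 : ∀ i : Fin s, Q (r i) = 0 := fun i => by rw [hval, if_neg (typePerm_true_ne (he rfl) i)]
    simp only [h0, mul_zero, zero_add]
    refine Finset.sum_involution (fun i _ => typePerm true i) ?_ ?_ (fun _ _ => Finset.mem_univ _) ?_
    · intro i _
      rw [typePerm_involutive true i, mul_comm (B (r i) x), CharTwo.add_self_eq_zero]
    · intro i _ _
      exact typePerm_true_ne (he rfl) i
    · intro i _; exact typePerm_involutive true i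

variable [PerfectRing F 2]

/-- every isometric involution is standard -/
theorem exists_standard (hA : B.IsAlt) (hB : B.Nondegenerate) (t : V ≃ₗ[F] V)
    (hpres : ∀ x y, B (t x) (t y) = B x y) (ht : ∀ x, t (t x) = x) :
    ∃ (s : ℕ) (ε : Bool) (r : Fin s → V), IsoFrame B r ∧ (ε = true → Even s) ∧
      ∀ x, t x = x + nilMap B ε r x := by
  let N : V →ₗ[F] V := t.toLinearMap + LinearMap.id
  have hN : ∀ x, N x = t x + x := fun x => rfl
  have hNN : ∀ x, N (N x) = 0 := fun x => by
    rw [hN, hN, map_add, ht, add_comm x (t x)]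
    exact add_self_vec (K := F) _
  have hsym : ∀ x y, B (N x) y = B x (N y) := fun x y => by
    rw [hN, hN, map_add, map_add, LinearMap.add_apply]
    congr 1
    rw [← hpres, ht]
  obtain ⟨C, hC⟩ := Submodule.exists_isCompl (LinearMap.ker N)
  let φ : LinearMap.BilinForm F V := B.compl₂ N
  have hφ : ∀ x y, φ x y = B x (N y) := fun x y => rfl
  have hφs : ∀ x y, φ x y = φ y x := fun x y => by rw [hφ, hφ, ← hsym, bilin_symm hA]
  have hdec : ∀ x, ∃ k ∈ LinearMap.ker N, ∃ c ∈ C, k + c = x := fun x =>
    Submodule.mem_sup.1 (hC.sup_eq_top ▸ Submodule.mem_top (x := x))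
  have hU : NondegOn φ C := by
    intro x hx h
    have hx0 : N x = 0 := hB.1 _ fun y => by
      obtain ⟨k, hk, c, hc, rfl⟩ := hdec y
      rw [hsym, map_add, LinearMap.mem_ker.1 hk, zero_add]
      exact h c hc
    have : x ∈ LinearMap.ker N ⊓ C := ⟨hx0, hx⟩
    rwa [hC.inf_eq_bot, Submodule.mem_bot] at this
  obtain ⟨ε, b, hb, hbb, he, -⟩ := exists_typePerm_family φ hφs C hU
  let r : Fin (Module.finrank F C) → V := fun i => N (b i)
  have hrb : ∀ i j, B (r i) (b j) = if j = typePerm ε i then 1 else 0 := fun i j => by
    rw [← hbb, hφ, hsym]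
  have hli : LinearIndependent F r := by
    rw [Fintype.linearIndependent_iff]
    intro a ha j
    have := congrArg (fun v => B v (b (typePerm ε j))) ha
    simp only [map_sum, map_smul, LinearMap.sum_apply, LinearMap.smul_apply, map_zero,
      LinearMap.zero_apply, hrb, smul_eq_mul] at this
    rw [Finset.sum_eq_single j (fun i _ hi => by
        rw [if_neg (fun e => hi ((typePerm_involutive ε).injective e.symm)), mul_zero]) (by simp),
      if_pos rfl, mul_one] at this
    exact this
  have hfr : IsoFrame B r := ⟨hli, fun i j => by rw [hsym, hNN, map_zero]⟩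
  refine ⟨_, ε, r, hfr, he, fun x => ?_⟩
  have hkey : N x = nilMap B ε r x := by
    obtain ⟨k, hk, c, hc, rfl⟩ := hdec x
    have hk0 : nilMap B ε r k = 0 := nilMap_eq_zero_of_perp fun i => by
      rw [hsym, LinearMap.mem_ker.1 hk, map_zero]
    rw [map_add, map_add, LinearMap.mem_ker.1 hk, hk0, zero_add, zero_add]
    -- the family spans the complement
    have hlib : LinearIndependent F (fun i => (⟨b i, hb i⟩ : C)) := by
      refine LinearIndependent.of_comp C.subtype (LinearIndependent.of_comp N ?_)
      exact hli
    have hspan := hlib.span_eq_top_of_card_eq_finrank' (by simp)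
    obtain ⟨a, ha⟩ := (Submodule.mem_span_range_iff_exists_fun F).1
      (hspan ▸ Submodule.mem_top (x := (⟨c, hc⟩ : C)))
    have ha' : ∑ i, a i • b i = c := by simpa using congrArg Subtype.val ha
    rw [← ha', map_sum, map_sum]
    refine Finset.sum_congr rfl fun i _ => ?_
    rw [map_smul, map_smul, nilMap_apply]
    congr 1
    rw [Finset.sum_eq_single i]
    · rw [hrb, typePerm_involutive ε i, if_pos rfl, one_smul]
    · intro j _ hj
      rw [hrb, typePerm_involutive ε j, if_neg (Ne.symm hj), zero_smul]
    · simp
  rw [← hkey, hN, add_comm (t x) x, ← add_assoc, add_self_vec (K := F), zero_add]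

/-! ### Counting classes -/

omit [CharP F 2] [PerfectRing F 2] in
theorem intertwine {g : V ≃ₗ[F] V} (hg : ∀ x y, B (g x) (g y) = B x y) {r' : Fin s → V}
    (hr : ∀ i, g (r i) = r' i) (x : V) : g (nilMap B ε r x) = nilMap B ε r' (g x) := by
  simp only [nilMap_apply, map_sum, map_smul, hr]
  refine Finset.sum_congr rfl fun i _ => ?_
  rw [← hr (typePerm ε i), hg]

/-- An isometry group, an admissibility condition for frames and the hypotheses of the class count. -/
structure InvolutionSetting (B : LinearMap.BilinForm F V) (G : Type*) [Group G] where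
  act : G →* (V ≃ₗ[F] V)
  act_injective : Function.Injective act
  preserves : ∀ g x y, B (act g x) (act g y) = B x y
  adm : {s : ℕ} → Bool → (Fin s → V) → Prop
  adm_of_involution : ∀ (g : G) {s : ℕ} (ε : Bool) (r : Fin s → V), IsoFrame B r → (ε = true → Even s) →
    (∀ x, act g x = x + nilMap B ε r x) → adm ε r
  realise : ∀ {s : ℕ} (ε : Bool) (r : Fin s → V) (h : IsoFrame B r), (ε = true → Even s) → adm ε r →
    ∃ g, act g = invEquiv B ε r h
  move : ∀ {s : ℕ} (ε : Bool) (r r' : Fin s → V), IsoFrame B r → IsoFrame B r' → adm ε r → adm ε r' →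
    ∃ g, ∀ i, act g (r i) = r' i

variable {G : Type*} [Group G] (S : InvolutionSetting B G)

/-- rank of `g - 1` and alternating type -/
noncomputable def InvolutionSetting.invariant (g : G) : ℕ × Bool :=
  (Module.finrank F (LinearMap.range ((S.act g).toLinearMap + LinearMap.id)),
    @decide (∀ x, B x (S.act g x) = 0) (Classical.dec _))

theorem InvolutionSetting.invariant_conj (c g : G) : S.invariant (c * g * c⁻¹) = S.invariant g := by
  have hact : ∀ x, S.act (c * g * c⁻¹) x = S.act c (S.act g ((S.act c).symm x)) := fun x => by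
    rw [map_mul, map_mul, map_inv]; rfl
  refine Prod.ext ?_ ?_
  · show Module.finrank F (LinearMap.range _) = Module.finrank F (LinearMap.range _)
    have e : (S.act (c * g * c⁻¹)).toLinearMap + LinearMap.id
        = ((S.act c).toLinearMap.comp ((S.act g).toLinearMap + LinearMap.id)).comp
          (S.act c).symm.toLinearMap := LinearMap.ext fun x => by simp [hact]
    rw [e, LinearMap.range_comp_of_range_eq_top _ (S.act c).symm.range, LinearMap.range_comp]
    exact ((Submodule.equivMapOfInjective _ (S.act c).injective _).finrank_eq).symm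
  · show @decide _ (Classical.dec _) = @decide _ (Classical.dec _)
    rw [decide_eq_decide]
    constructor
    · intro h x
      have := h (S.act c x)
      rwa [hact, LinearEquiv.symm_apply_apply, S.preserves] at this
    · intro h x
      rw [hact]
      have := h ((S.act c).symm x)
      rw [← S.preserves c, LinearEquiv.apply_symm_apply] at this
      exact this

theorem InvolutionSetting.exists_standard (hA : B.IsAlt) (hB : B.Nondegenerate) (g : G)
    (hg : orderOf g = 2) :
    ∃ (s : ℕ) (ε : Bool) (r : Fin s → V), IsoFrame B r ∧ (ε = true → Even s) ∧ 1 ≤ s ∧ S.adm ε r ∧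
      (∀ x, S.act g x = x + nilMap B ε r x) ∧ S.invariant g = (s, ε) := by
  have h2 : g * g = 1 := by rw [← pow_two, ← hg]; exact pow_orderOf_eq_one g
  obtain ⟨s, ε, r, hr, he, hx⟩ := InvolutionTwo.exists_standard hA hB (S.act g) (S.preserves g)
    (fun x => by
      have := congrArg (fun e : V ≃ₗ[F] V => e x) ((map_mul S.act g g).symm.trans (by rw [h2, map_one]))
      simpa using this)
  have hs : 1 ≤ s := by
    by_contra hs
    have hg1 : g = 1 := S.act_injective (LinearEquiv.ext fun x => by
      obtain rfl : s = 0 := by omega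
      simp [hx x, nilMap_apply])
    rw [hg1, orderOf_one] at hg
    omega
  refine ⟨s, ε, r, hr, he, hs, S.adm_of_involution g ε r hr he hx, hx, Prod.ext ?_ ?_⟩
  · show Module.finrank F (LinearMap.range _) = s
    have e : (S.act g).toLinearMap + LinearMap.id = nilMap B ε r := LinearMap.ext fun x => by
      show S.act g x + x = _
      rw [hx, add_comm x, add_assoc, add_self_vec (K := F), add_zero]
    rw [e, finrank_range_nilMap hB hr.li]
  · show @decide (∀ x, B x (S.act g x) = 0) (Classical.dec _) = ε
    have hiff := type_iff hA hB hr hs he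
    cases ε with
    | true => exact @decide_eq_true _ (Classical.dec _) fun x => by rw [hx]; exact hiff.1 rfl x
    | false => exact @decide_eq_false _ (Classical.dec _) fun h => Bool.false_ne_true (hiff.2 fun x => by rw [← hx]; exact h x)

theorem InvolutionSetting.isConj_of_invariant (hA : B.IsAlt) (hB : B.Nondegenerate) {g g' : G}
    (hg : orderOf g = 2) (hg' : orderOf g' = 2) (h : S.invariant g = S.invariant g') : IsConj g g' := by
  obtain ⟨s, ε, r, hr, -, -, hadm, hx, hi⟩ := S.exists_standard hA hB g hg
  obtain ⟨s', ε', r', hr', -, -, hadm', hx', hi'⟩ := S.exists_standard hA hB g' hg'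
  obtain ⟨rfl, rfl⟩ : s = s' ∧ ε = ε' := Prod.ext_iff.1 (hi.symm.trans (h.trans hi'))
  obtain ⟨c, hc⟩ := S.move ε r r' hr hr' hadm hadm'
  refine isConj_iff.2 ⟨c, ?_⟩
  rw [mul_inv_eq_iff_eq_mul]
  refine S.act_injective (LinearEquiv.ext fun x => ?_)
  rw [map_mul, map_mul, LinearEquiv.mul_apply, LinearEquiv.mul_apply, hx, hx', map_add,
    intertwine (S.preserves c) hc]

theorem InvolutionSetting.natCard_classes (hA : B.IsAlt) (hB : B.Nondegenerate) (T : Finset (ℕ × Bool))
    (hT : ∀ s ε, (s, ε) ∈ T ↔
      1 ≤ s ∧ (ε = true → Even s) ∧ ∃ r : Fin s → V, IsoFrame B r ∧ S.adm ε r) :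
    Nat.card {C : ConjClasses G // ∃ g : G, ConjClasses.mk g = C ∧ orderOf g = 2} = T.card := by
  have hmem : ∀ g : G, orderOf g = 2 → S.invariant g ∈ T := fun g hg => by
    obtain ⟨s, ε, r, hr, he, hs, hadm, -, hi⟩ := S.exists_standard hA hB g hg
    rw [hi, hT]
    exact ⟨hs, he, r, hr, hadm⟩
  let f : {C : ConjClasses G // ∃ g : G, ConjClasses.mk g = C ∧ orderOf g = 2} → T := fun C =>
    ⟨S.invariant C.2.choose, hmem _ C.2.choose_spec.2⟩
  have hf : Function.Bijective f := by
    constructor
    · intro C C' h
      refine Subtype.ext ?_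
      rw [← C.2.choose_spec.1, ← C'.2.choose_spec.1]
      exact ConjClasses.mk_eq_mk_iff_isConj.2
        (S.isConj_of_invariant hA hB C.2.choose_spec.2 C'.2.choose_spec.2 (congrArg Subtype.val h))
    · rintro ⟨⟨s, ε⟩, hse⟩
      obtain ⟨hs, he, r, hr, hadm⟩ := (hT s ε).1 hse
      obtain ⟨g, hg⟩ := S.realise ε r hr he hadm
      have hx : ∀ x, S.act g x = x + nilMap B ε r x := fun x => by rw [hg]; rfl
      have hord : orderOf g = 2 := by
        apply orderOf_eq_prime
        · refine S.act_injective (LinearEquiv.ext fun x => ?_)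
          rw [map_pow, map_one, pow_two, LinearEquiv.mul_apply, hg]
          exact (invEquiv B ε r hr).left_inv x
        · intro h1
          have h0 : nilMap B ε r = 0 := LinearMap.ext fun x => by
            have := hx x
            rw [h1, map_one] at this
            simpa using this.symm
          have := finrank_range_nilMap (ε := ε) hB hr.li
          rw [h0, LinearMap.range_zero, finrank_bot] at this
          omega
      obtain ⟨s', ε', r', hr', he', -, -, hx', hi'⟩ := S.exists_standard hA hB g hord
      have hse' : S.invariant g = (s, ε) := by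
        refine Prod.ext ?_ ?_
        · show Module.finrank F (LinearMap.range _) = s
          have e : (S.act g).toLinearMap + LinearMap.id = nilMap B ε r := LinearMap.ext fun x => by
            show S.act g x + x = _
            rw [hx, add_comm x, add_assoc, add_self_vec (K := F), add_zero]
          rw [e, finrank_range_nilMap hB hr.li]
        · show @decide (∀ x, B x (S.act g x) = 0) (Classical.dec _) = ε
          have hiff := type_iff hA hB hr hs he
          cases ε with
          | true => exact @decide_eq_true _ (Classical.dec _) fun x => by rw [hx]; exact hiff.1 rfl x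
          | false =>
            exact @decide_eq_false _ (Classical.dec _) fun h => Bool.false_ne_true (hiff.2 fun x => by rw [← hx]; exact h x)
      refine ⟨⟨ConjClasses.mk g, g, rfl, hord⟩, Subtype.ext ?_⟩
      have hspec := (⟨ConjClasses.mk g, g, rfl, hord⟩ :
        {C : ConjClasses G // ∃ g : G, ConjClasses.mk g = C ∧ orderOf g = 2}).2.choose_spec.1
      obtain ⟨c, hc⟩ := isConj_iff.1 (ConjClasses.mk_eq_mk_iff_isConj.1 hspec)
      show S.invariant _ = (s, ε)
      exact ((S.invariant_conj c _).symm.trans (congrArg S.invariant hc)).trans hse'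
  rw [Nat.card_congr (Equiv.ofBijective f hf)]
  simp

/-- types `(s, false)` for `1 ≤ s ≤ a` and `(s, true)` for even `2 ≤ s ≤ b` -/
def typeSet (a b : ℕ) : Finset (ℕ × Bool) :=
  (Finset.Icc 1 a).image (fun s => (s, false)) ∪ (Finset.Icc 1 (b / 2)).image (fun k => (2 * k, true))

theorem mem_typeSet {a b s : ℕ} {ε : Bool} : (s, ε) ∈ typeSet a b ↔
    1 ≤ s ∧ (ε = true → Even s) ∧ s ≤ if ε then b else a := by
  cases ε with
  | false => simp [typeSet]
  | true =>
    simp only [typeSet, Finset.mem_union, Finset.mem_image, Finset.mem_Icc, Prod.mk.injEq, if_true,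
      Bool.false_eq_true, and_false, exists_false, false_or, and_true, Nat.even_iff, true_implies,
      forall_const]
    constructor
    · rintro ⟨k, hk, rfl⟩; omega
    · rintro ⟨h1, h2, h3⟩; exact ⟨s / 2, by omega, by omega⟩

theorem card_typeSet (a b : ℕ) : (typeSet a b).card = a + b / 2 := by
  rw [typeSet, Finset.card_union_of_disjoint, Finset.card_image_of_injective,
    Finset.card_image_of_injective]
  · simp
  · intro x y h; simpa using h
  · intro x y h; simpa using h
  · rw [Finset.disjoint_left]; simp

end Cfsg.Agent.Lib.InvolutionTwo
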