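import Mathlib
import Cfsg.Agent.Lib.InvolutionTwo.Classify
import Cfsg.Agent.Lib.Classical.Isometry
import Cfsg.Agent.Lib.Forms.Witt
import Cfsg.Agent.Lib.Dickson.StdQuad

/-!
The setting of involution classes for an orthogonal group in characteristic two.
-/

set_option autoImplicit false

namespace Cfsg.Agent.Lib.InvolutionTwo

open Classical StdForms

variable {ι : Type} [Fintype ι] [DecidableEq ι] {F : Type*} [Field F] [CharP F 2]
  (Q : QuadraticForm F (ι → F))

theorem isAlt_polar : (QuadraticMap.polarBilin Q).IsAlt := fun v => by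
  rw [QuadraticMap.polarBilin_apply_apply, QuadraticMap.polar_self, two_nsmul, CharTwo.add_self_eq_zero]

/-- the values a frame has to take -/
def FrameValues {s : ℕ} (ε : Bool) (r : Fin s → ι → F) : Prop :=
  ∀ i, Q (r i) = if typePerm ε i = i then 1 else 0

/-- the orthogonal group as a setting -/
noncomputable def orthSetting (hQ : (QuadraticMap.polarBilin Q).Nondegenerate) :
    InvolutionSetting (QuadraticMap.polarBilin Q) ↥(Cfsg.isometryGroup F ⇑Q) where
  act := (isoGroup (F := F) ⇑Q).subtype.comp (isometryGroupEquiv ⇑Q).toMonoidHom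
  act_injective := Subtype.val_injective.comp (isometryGroupEquiv ⇑Q).injective
  preserves g x y := by
    have h : ∀ v, Q ((isometryGroupEquiv (⇑Q) g).1 v) = Q v := (isometryGroupEquiv (⇑Q) g).2
    show QuadraticMap.polar ⇑Q ((isometryGroupEquiv (⇑Q) g).1 x) ((isometryGroupEquiv (⇑Q) g).1 y) = _
    simp only [QuadraticMap.polar, ← map_add, h]
    rfl
  adm ε r := FrameValues Q ε r
  adm_of_involution g s ε r hr he hx := fun i =>
    quad_frame (isAlt_polar Q) hQ hr.li (fun _ _ => rfl) (fun x => by
      rw [← hx]; exact (isometryGroupEquiv (⇑Q) g).2 x) i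
  realise ε r h he hadm := ⟨(isometryGroupEquiv (⇑Q)).symm ⟨invEquiv (QuadraticMap.polarBilin Q) ε r h,
      invEquiv_preserves_quad (isAlt_polar Q) (fun _ _ => rfl) h he hadm⟩,
    congrArg Subtype.val ((isometryGroupEquiv (⇑Q)).apply_symm_apply _)⟩
  move ε r r' hr hr' hadm hadm' := by
    obtain ⟨g, hg, hgr⟩ := Forms.witt_family_quad hQ r r' hr.li hr'.li
      (fun i => (hadm i).trans (hadm' i).symm)
      (fun i j => by
        have h1 := hr.orth i j
        have h2 := hr'.orth i j
        rw [QuadraticMap.polarBilin_apply_apply] at h1 h2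
        rw [h1, h2])
    refine ⟨(isometryGroupEquiv (⇑Q)).symm ⟨g, hg⟩, fun i => ?_⟩
    show (isometryGroupEquiv (⇑Q) ((isometryGroupEquiv (⇑Q)).symm _)).1 (r i) = r' i
    rw [MulEquiv.apply_symm_apply]
    exact hgr i

/-! ### Frames in the standard spaces -/

theorem exists_frame_plus (ε : Bool) {s m : ℕ} (hs : s ≤ m) (he : ε = true → Even s) :
    ∃ r : Fin s → Fin m ⊕ Fin m → F,
      IsoFrame (QuadraticMap.polarBilin (plusQ F m)) r ∧ FrameValues (plusQ F m) ε r := by
  let c : F := if ε then 0 else 1
  refine ⟨fun i => Pi.single (Sum.inl (Fin.castLE hs i)) 1 + c • Pi.single (Sum.inr (Fin.castLE hs i)) 1,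
    ⟨?_, fun i j => ?_⟩, fun i => ?_⟩
  · rw [Fintype.linearIndependent_iff]
    intro a ha j
    have := congrFun ha (Sum.inl (Fin.castLE hs j))
    simpa [Finset.sum_apply, Pi.single_apply] using this
  · show QuadraticMap.polar _ _ _ = 0
    rw [coe_plusQ, polar_plus]
    by_cases h : i = j
    · subst h
      simp [Pi.single_apply, CharTwo.add_self_eq_zero]
    · simp [Pi.single_apply, h, Ne.symm h]
  · rw [coe_plusQ]
    have hv : Cfsg.quadFormPlus m F (Pi.single (Sum.inl (Fin.castLE hs i)) 1 +
        c • Pi.single (Sum.inr (Fin.castLE hs i)) 1) = c := by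
      simp [Cfsg.quadFormPlus, Pi.single_apply]
    refine hv.trans ?_
    cases ε with
    | true => rw [if_neg (typePerm_true_ne (he rfl) i)]; rfl
    | false => rw [if_pos (show typePerm false i = i from rfl)]; rfl

theorem exists_frame_minus (ε : Bool) {s k : ℕ} (a b : F) (hs : s ≤ if ε then k else k + 1)
    (he : ε = true → Even s) :
    ∃ r : Fin s → (Fin k ⊕ Fin k) ⊕ Fin 2 → F,
      IsoFrame (QuadraticMap.polarBilin (minusQ F k a b)) r ∧ FrameValues (minusQ F k a b) ε r := by
  let c : F := if ε then 0 else 1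
  let f : Fin s → (Fin k ⊕ Fin k) ⊕ Fin 2 → F := fun i =>
    if h : (i : ℕ) < k then
      Pi.single (Sum.inl (Sum.inl ⟨i, h⟩)) 1 + c • Pi.single (Sum.inl (Sum.inr ⟨i, h⟩)) 1
    else Pi.single (Sum.inr 0) 1
  have hk : ∀ i : Fin s, ¬ (i : ℕ) < k → (i : ℕ) = k ∧ ε = false := fun i hi => by
    cases ε with
    | true => simp only [if_true] at hs; omega
    | false => simp only [Bool.false_eq_true, if_false] at hs; exact ⟨by omega, rfl⟩
  refine ⟨f, ⟨?_, fun i j => ?_⟩, fun i => ?_⟩
  · rw [Fintype.linearIndependent_iff]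
    intro g hg j
    by_cases hj : (j : ℕ) < k
    · have := congrFun hg (Sum.inl (Sum.inl ⟨j, hj⟩))
      rw [Finset.sum_apply, Finset.sum_eq_single j] at this
      · simpa [f, hj, Pi.single_apply] using this
      · intro i _ hij
        by_cases hi : (i : ℕ) < k
        · simp [f, hi, Pi.single_apply, Fin.val_ne_of_ne hij, Fin.ext_iff, (Fin.val_ne_of_ne hij).symm]
        · simp [f, hi, Pi.single_apply]
      · simp
    · have := congrFun hg (Sum.inr 0)
      rw [Finset.sum_apply, Finset.sum_eq_single j] at this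
      · simpa [f, hj, Pi.single_apply] using this
      · intro i _ hij
        by_cases hi : (i : ℕ) < k
        · simp [f, hi, Pi.single_apply]
        · exact absurd (Fin.ext ((hk i hi).1.trans (hk j hj).1.symm)) hij
      · simp
  · show QuadraticMap.polar _ _ _ = 0
    rw [coe_minusQ, polar_minus]
    by_cases hi : (i : ℕ) < k <;> by_cases hj : (j : ℕ) < k
    · by_cases h : i = j
      · subst h
        simp [f, hi, Pi.single_apply, CharTwo.add_self_eq_zero]
      · simp [f, hi, hj, Pi.single_apply, Fin.ext_iff, Fin.val_ne_of_ne h, (Fin.val_ne_of_ne h).symm]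
        have hv := Fin.val_ne_of_ne h
        rw [Finset.sum_eq_zero, Finset.sum_eq_zero, add_zero] <;> intro x _ <;> split_ifs <;>
          first | rfl | omega
    · simp [f, hi, hj, Pi.single_apply]
    · simp [f, hi, hj, Pi.single_apply]
    · simp [f, hi, hj, CharTwo.two_eq_zero, Pi.single_apply]
  · rw [coe_minusQ]
    by_cases hi : (i : ℕ) < k
    · have hv : Cfsg.quadFormMinus k F a b (f i) = c := by
        simp [f, hi, Cfsg.quadFormMinus, Pi.single_apply]
      refine hv.trans ?_
      cases ε with
      | true => rw [if_neg (typePerm_true_ne (he rfl) i)]; rfl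
      | false => rw [if_pos (show typePerm false i = i from rfl)]; rfl
    · obtain ⟨-, rfl⟩ := hk i hi
      rw [if_pos (show typePerm false i = i from rfl)]
      simp [f, hi, Cfsg.quadFormMinus, Pi.single_apply]

theorem frame_true_le_minus {s k : ℕ} {a b : F} (hab : Classical.BinAniso a b)
    {r : Fin s → (Fin k ⊕ Fin k) ⊕ Fin 2 → F} (hr : IsoFrame (QuadraticMap.polarBilin (minusQ F k a b)) r)
    (hv : FrameValues (minusQ F k a b) true r) (he : Even s) : s ≤ k := by
  refine minus_singular_dim_le a b hab (Fintype.linearCombination F r)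
    hr.li.fintypeLinearCombination_injective fun x => ?_
  rw [← coe_minusQ, Fintype.linearCombination_apply, quad_sum_orth (fun _ _ => rfl) hr]
  exact Finset.sum_eq_zero fun i _ => by rw [hv, if_neg (typePerm_true_ne he i), mul_zero]

/-! ### Counts -/

variable [Finite F]

theorem natCard_classes_plus (m : ℕ) :
    Nat.card {C : ConjClasses ↥(Cfsg.isometryGroup F ⇑(plusQ F m)) //
      ∃ g : ↥(Cfsg.isometryGroup F ⇑(plusQ F m)), ConjClasses.mk g = C ∧ orderOf g = 2} = m + m / 2 := by
  haveI : PerfectRing F 2 := PerfectRing.ofFiniteOfIsReduced 2 F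
  rw [(orthSetting _ (plusQ_nondegenerate m)).natCard_classes (isAlt_polar _) (plusQ_nondegenerate m)
    (typeSet m m), card_typeSet]
  intro s ε
  rw [mem_typeSet, ite_self]
  refine and_congr_right fun _ => and_congr_right fun he => ⟨fun h => exists_frame_plus ε h he, ?_⟩
  rintro ⟨r, hr, -⟩
  have := hr.two_mul_le (plusQ_nondegenerate (F := F) m)
  simp at this
  omega

theorem natCard_classes_minus (k : ℕ) {a b : F} (hab : Classical.BinAniso a b) :
    Nat.card {C : ConjClasses ↥(Cfsg.isometryGroup F ⇑(minusQ F k a b)) //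
      ∃ g : ↥(Cfsg.isometryGroup F ⇑(minusQ F k a b)), ConjClasses.mk g = C ∧ orderOf g = 2}
      = k + 1 + k / 2 := by
  haveI : PerfectRing F 2 := PerfectRing.ofFiniteOfIsReduced 2 F
  rw [(orthSetting _ (minusQ_nondegenerate hab k)).natCard_classes (isAlt_polar _)
    (minusQ_nondegenerate hab k) (typeSet (k + 1) k), card_typeSet]
  intro s ε
  rw [mem_typeSet]
  refine and_congr_right fun _ => and_congr_right fun he => ⟨fun h => exists_frame_minus ε a b h he, ?_⟩
  rintro ⟨r, hr, hv⟩
  have := hr.two_mul_le (minusQ_nondegenerate hab k)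
  simp at this
  cases ε with
  | true => simpa using frame_true_le_minus hab hr hv (he rfl)
  | false => simp; omega

end Cfsg.Agent.Lib.InvolutionTwo
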