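import Mathlib
import Cfsg.Agent.Lib.InvolutionTwo.Orth
import Cfsg.Agent.Lib.Dickson.PlusClass
import Cfsg.Agent.Lib.OmegaPlus.Levi
import Cfsg.Agent.Lib.Classical.Standard
import Cfsg.Agent.S0824

/-!
Involution classes of `Ω±` in characteristic two.
-/

set_option autoImplicit false

namespace Cfsg.Agent.Lib.InvolutionTwo

open StdForms Orth

/-- counting classes of involutions by a complete invariant -/
theorem natCard_involution_classes {G α : Type*} [Group G] (f : G → α) (T : Finset α)
    (hconj : ∀ c g : G, orderOf g = 2 → f (c * g * c⁻¹) = f g)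
    (hmem : ∀ g : G, orderOf g = 2 → f g ∈ T)
    (hinj : ∀ g g' : G, orderOf g = 2 → orderOf g' = 2 → f g = f g' → IsConj g g')
    (hsurj : ∀ a ∈ T, ∃ g : G, orderOf g = 2 ∧ f g = a) :
    Nat.card {C : ConjClasses G // ∃ g : G, ConjClasses.mk g = C ∧ orderOf g = 2} = T.card := by
  let φ : {C : ConjClasses G // ∃ g : G, ConjClasses.mk g = C ∧ orderOf g = 2} → T := fun C =>
    ⟨f C.2.choose, hmem _ C.2.choose_spec.2⟩
  have hφ : Function.Bijective φ := by
    constructor
    · intro C C' h
      refine Subtype.ext ?_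
      rw [← C.2.choose_spec.1, ← C'.2.choose_spec.1]
      exact ConjClasses.mk_eq_mk_iff_isConj.2
        (hinj _ _ C.2.choose_spec.2 C'.2.choose_spec.2 (congrArg Subtype.val h))
    · rintro ⟨a, ha⟩
      obtain ⟨g, hg, rfl⟩ := hsurj a ha
      refine ⟨⟨ConjClasses.mk g, g, rfl, hg⟩, Subtype.ext ?_⟩
      have hspec := (⟨ConjClasses.mk g, g, rfl, hg⟩ :
        {C : ConjClasses G // ∃ g : G, ConjClasses.mk g = C ∧ orderOf g = 2}).2.choose_spec
      obtain ⟨c, hc⟩ := isConj_iff.1 (ConjClasses.mk_eq_mk_iff_isConj.1 hspec.1)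
      exact ((hconj c _ hspec.2).symm.trans (congrArg f hc))
  rw [Nat.card_congr (Equiv.ofBijective φ hφ)]
  simp

/-- types with even rank -/
def evenTypeSet (a b : ℕ) : Finset (ℕ × Bool) := (typeSet a b).filter fun p => Even p.1

theorem card_evenTypeSet (a b : ℕ) : (evenTypeSet a b).card = a / 2 + b / 2 := by
  have e : evenTypeSet a b =
      (Finset.Icc 1 (a / 2)).image (fun j => (2 * j, false)) ∪
        (Finset.Icc 1 (b / 2)).image (fun j => (2 * j, true)) := by
    ext ⟨s, ε⟩
    simp only [evenTypeSet, Finset.mem_filter, mem_typeSet, Finset.mem_union, Finset.mem_image,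
      Finset.mem_Icc, Prod.mk.injEq]
    cases ε with
    | false =>
      simp only [Bool.false_eq_true, Bool.true_eq_false, false_imp_iff, true_and, if_false, and_false,
        exists_false, or_false, and_true, Nat.even_iff]
      exact ⟨fun h => ⟨s / 2, by omega, by omega⟩, fun ⟨j, hj, e⟩ => by omega⟩
    | true =>
      simp only [if_true, Bool.true_eq_false, Bool.false_eq_true, and_false, exists_false, false_or, and_true,
        true_imp_iff, Nat.even_iff]
      exact ⟨fun h => ⟨s / 2, by omega, by omega⟩, fun ⟨j, hj, e⟩ => by omega⟩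
  rw [e, Finset.card_union_of_disjoint, Finset.card_image_of_injective, Finset.card_image_of_injective]
  · simp
  · intro x y h; simpa using h
  · intro x y h; simpa using h
  · rw [Finset.disjoint_left]; simp

variable {ι : Type} [Fintype ι] [DecidableEq ι] {F : Type*} [Field F] [Finite F] [CharP F 2]
  {Q : QuadraticForm F (ι → F)}

theorem act_eq_app (hQ : (QuadraticMap.polarBilin Q).Nondegenerate)
    (g : ↥(Cfsg.isometryGroup F ⇑Q)) (x : ι → F) : (orthSetting Q hQ).act g x = app g x := rfl

theorem dickson_eq (hQ : (QuadraticMap.polarBilin Q).Nondegenerate) (g : ↥(Cfsg.isometryGroup F ⇑Q))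
    {s : ℕ} {ε : Bool} {r : Fin s → ι → F} (hr : IsoFrame (QuadraticMap.polarBilin Q) r)
    (hx : ∀ x, (orthSetting Q hQ).act g x = x + nilMap (QuadraticMap.polarBilin Q) ε r x) :
    Dickson.dickson hQ g = (-1) ^ s := by
  show (-1 : ℤˣ) ^ (Matrix.rank _) = _
  congr 1
  rw [Matrix.rank]
  have e : (((g : Matrix.GeneralLinearGroup ι F) : Matrix ι ι F) - 1).mulVecLin
      = nilMap (QuadraticMap.polarBilin Q) ε r := LinearMap.ext fun x => by
    rw [Matrix.mulVecLin_apply, Matrix.sub_mulVec, Matrix.one_mulVec]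
    exact sub_eq_iff_eq_add'.2 (hx x)
  rw [e]
  exact finrank_range_nilMap hQ hr.li

theorem two_mul_finrank_le (hQ : (QuadraticMap.polarBilin Q).Nondegenerate)
    {W : Submodule F (ι → F)} (hW : ∀ x ∈ W, Q x = 0) :
    Module.finrank F W + Module.finrank F W ≤ Module.finrank F (ι → F) := by
  refine IsoFrame.two_mul_le hQ (r := fun i => (Module.finBasis F W i : ι → F)) ⟨?_, fun i j => ?_⟩
  · exact (Module.finBasis F W).linearIndependent.map' W.subtype W.ker_subtype
  · show QuadraticMap.polar _ _ _ = 0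
    simp only [QuadraticMap.polar, hW _ (Module.finBasis F W i).2, hW _ (Module.finBasis F W j).2,
      hW _ (W.add_mem (Module.finBasis F W i).2 (Module.finBasis F W j).2), sub_zero]

theorem exists_orth_nonsingular (hQ : (QuadraticMap.polarBilin Q).Nondegenerate) {s : ℕ} {ε : Bool}
    {r : Fin s → ι → F} (hr : IsoFrame (QuadraticMap.polarBilin Q) r) (hv : FrameValues Q ε r)
    (hs : 1 ≤ s) (h : ε = false ∨ s + s < Module.finrank F (ι → F)) :
    ∃ v, Q v ≠ 0 ∧ ∀ i, QuadraticMap.polar ⇑Q v (r i) = 0 := by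
  rcases h with rfl | h
  · refine ⟨r ⟨0, hs⟩, ?_, fun i => hr.orth _ i⟩
    rw [hv, if_pos (show typePerm false (⟨0, hs⟩ : Fin s) = ⟨0, hs⟩ from rfl)]
    exact one_ne_zero
  · by_contra hne
    push Not at hne
    let ψ : (ι → F) →ₗ[F] (Fin s → F) := LinearMap.pi fun i => (QuadraticMap.polarBilin Q).flip (r i)
    have h0 : ∀ x ∈ LinearMap.ker ψ, Q x = 0 := fun x hx => by
      by_contra hx0
      obtain ⟨i, hi⟩ := hne x hx0
      exact hi (congrFun (LinearMap.mem_ker.1 hx) i)
    have h1 := two_mul_finrank_le hQ h0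
    have h2 := ψ.finrank_range_add_finrank_ker
    have h3 : Module.finrank F (LinearMap.range ψ) ≤ s :=
      (Submodule.finrank_le _).trans (by simp)
    omega

/-- adjust a conjugating element into the kernel -/
theorem exists_move_dickson (hQ : (QuadraticMap.polarBilin Q).Nondegenerate) {s : ℕ} {ε : Bool}
    {r r' : Fin s → ι → F} (hr : IsoFrame (QuadraticMap.polarBilin Q) r)
    (hr' : IsoFrame (QuadraticMap.polarBilin Q) r') (hv : FrameValues Q ε r) (hv' : FrameValues Q ε r')
    (hs : 1 ≤ s) (h : ε = false ∨ s + s < Module.finrank F (ι → F)) :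
    ∃ c : ↥(Cfsg.isometryGroup F ⇑Q), Dickson.dickson hQ c = 1 ∧
      ∀ i, (orthSetting Q hQ).act c (r i) = r' i := by
  obtain ⟨c, hc⟩ := (orthSetting Q hQ).move ε r r' hr hr' hv hv'
  rcases Int.units_eq_one_or (Dickson.dickson hQ c) with h1 | h1
  · exact ⟨c, h1, hc⟩
  · obtain ⟨v, hv0, hvr⟩ := exists_orth_nonsingular hQ hr hv hs h
    refine ⟨c * refl Q v hv0, by rw [map_mul, h1, Dickson.dickson_refl]; rfl, fun i => ?_⟩
    rw [act_eq_app, app_mul, app_refl_of_polar_eq_zero hv0 (hvr i)]
    exact hc i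

theorem orderOf_realised (hQ : (QuadraticMap.polarBilin Q).Nondegenerate)
    {g : ↥(Cfsg.isometryGroup F ⇑Q)} {s : ℕ} {ε : Bool} {r : Fin s → ι → F}
    {hr : IsoFrame (QuadraticMap.polarBilin Q) r} (hs : 1 ≤ s)
    (hg : (orthSetting Q hQ).act g = invEquiv (QuadraticMap.polarBilin Q) ε r hr) : orderOf g = 2 := by
  apply orderOf_eq_prime
  · refine (orthSetting Q hQ).act_injective (LinearEquiv.ext fun x => ?_)
    rw [map_pow, map_one, pow_two, LinearEquiv.mul_apply, hg]
    exact (invEquiv (QuadraticMap.polarBilin Q) ε r hr).left_inv x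
  · intro h1
    have h0 : nilMap (QuadraticMap.polarBilin Q) ε r = 0 := LinearMap.ext fun x => by
      have := congrArg (fun e : (ι → F) ≃ₗ[F] (ι → F) => e x) hg
      simp only [h1, map_one, invEquiv_apply] at this
      simpa using this.symm
    have := finrank_range_nilMap (ε := ε) hQ hr.li
    rw [h0, LinearMap.range_zero, finrank_bot] at this
    omega

theorem invariant_realised [PerfectRing F 2] (hQ : (QuadraticMap.polarBilin Q).Nondegenerate)
    {g : ↥(Cfsg.isometryGroup F ⇑Q)} {s : ℕ} {ε : Bool} {r : Fin s → ι → F}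
    {hr : IsoFrame (QuadraticMap.polarBilin Q) r} (hs : 1 ≤ s) (he : ε = true → Even s)
    (hg : (orthSetting Q hQ).act g = invEquiv (QuadraticMap.polarBilin Q) ε r hr) :
    (orthSetting Q hQ).invariant g = (s, ε) := by
  have hx : ∀ x, (orthSetting Q hQ).act g x = x + nilMap (QuadraticMap.polarBilin Q) ε r x :=
    fun x => by rw [hg]; rfl
  refine Prod.ext ?_ ?_
  · show Module.finrank F (LinearMap.range _) = s
    have e : ((orthSetting Q hQ).act g).toLinearMap + LinearMap.id
        = nilMap (QuadraticMap.polarBilin Q) ε r := LinearMap.ext fun x => by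
      show (orthSetting Q hQ).act g x + x = _
      rw [hx, add_comm x, add_assoc, add_self_vec (K := F), add_zero]
    rw [e, finrank_range_nilMap hQ hr.li]
  · show @decide (∀ x, QuadraticMap.polarBilin Q x ((orthSetting Q hQ).act g x) = 0) (Classical.dec _) = ε
    have hiff := type_iff (isAlt_polar Q) hQ hr hs he
    cases ε with
    | true => exact @decide_eq_true _ (Classical.dec _) fun x => by rw [hx]; exact hiff.1 rfl x
    | false =>
      exact @decide_eq_false _ (Classical.dec _) fun h =>
        Bool.false_ne_true (hiff.2 fun x => by rw [← hx]; exact h x)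

theorem isConj_in_omega (hQ : (QuadraticMap.polarBilin Q).Nondegenerate)
    {g g' : ↥(Cfsg.Omega F ⇑Q)} {c : ↥(Cfsg.isometryGroup F ⇑Q)} (hc : c ∈ Cfsg.Omega F ⇑Q)
    {s : ℕ} {ε : Bool} {r r' : Fin s → ι → F}
    (hx : ∀ x, (orthSetting Q hQ).act g.1 x = x + nilMap (QuadraticMap.polarBilin Q) ε r x)
    (hx' : ∀ x, (orthSetting Q hQ).act g'.1 x = x + nilMap (QuadraticMap.polarBilin Q) ε r' x)
    (hcr : ∀ i, (orthSetting Q hQ).act c (r i) = r' i) : IsConj g g' := by
  refine isConj_iff.2 ⟨⟨c, hc⟩, ?_⟩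
  rw [mul_inv_eq_iff_eq_mul]
  refine Subtype.ext ((orthSetting Q hQ).act_injective (LinearEquiv.ext fun x => ?_))
  show (orthSetting Q hQ).act (c * g.1) x = (orthSetting Q hQ).act (g'.1 * c) x
  rw [map_mul, map_mul, LinearEquiv.mul_apply, LinearEquiv.mul_apply, hx, hx', map_add,
    intertwine ((orthSetting Q hQ).preserves c) hcr]

/-! ### The minus case -/

theorem mem_omega_minus_iff (k : ℕ) {a b : F} (hab : Classical.BinAniso a b)
    (g : ↥(Cfsg.isometryGroup F ⇑(minusQ F k a b))) :
    g ∈ Cfsg.Omega F ⇑(minusQ F k a b) ↔ Dickson.dickson (minusQ_nondegenerate hab k) g = 1 := by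
  classical
  haveI := Fintype.ofFinite F
  by_cases hex : (∃ c : F, c ≠ 0 ∧ c ≠ 1) ∨ Fintype.card ((Fin k ⊕ Fin k) ⊕ Fin 2) ≠ 4
  · exact Dickson.mem_omega_iff_charTwo (minusQ_nondegenerate hab k) hex _
      (fun v hv => Dickson.dickson_refl _ hv) g
  push Not at hex
  obtain ⟨h01, hk⟩ := hex
  obtain rfl : k = 1 := by simp at hk; omega
  have hF : Fintype.card F = 2 := by
    have h1 : 1 < Fintype.card F := Fintype.one_lt_card
    have h2 : (Finset.univ : Finset F) ⊆ {0, 1} := fun c _ => by
      by_cases hc : c = 0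
      · simp [hc]
      · simp [h01 c hc]
    have := Finset.card_le_card h2
    rw [Finset.card_univ] at this
    have h3 := Finset.card_le_two (a := (0 : F)) (b := 1)
    omega
  have hb : b = 1 := h01 b fun hb => one_ne_zero (hab 0 1 (by rw [hb]; ring)).2
  have ha : a = 1 := h01 a fun ha => one_ne_zero (hab 1 1 (by
    rw [ha, hb]; ring_nf; exact CharTwo.two_eq_zero)).1
  subst ha hb
  have hidx : (Cfsg.Omega F ⇑(minusQ F 1 1 1)).index = 2 := by
    rw [coe_minusQ]
    obtain ⟨e⟩ := S0824.result hF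
    have hmap : (Cfsg.Omega F (Cfsg.quadFormMinus 1 F 1 1)).map e.toMonoidHom
        = alternatingGroup (Fin 5) := by
      rw [Cfsg.Omega, commutator_def, Subgroup.map_commutator,
        Subgroup.map_top_of_surjective e.toMonoidHom e.surjective, ← commutator_def,
        alternatingGroup.commutator_perm_eq (by simp)]
    rw [← (Cfsg.Omega F (Cfsg.quadFormMinus 1 F 1 1)).index_map_equiv e]
    exact (congrArg Subgroup.index hmap).trans alternatingGroup.index_eq_two
  set χ := Dickson.dickson (minusQ_nondegenerate hab 1)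
  have hle : Cfsg.Omega F ⇑(minusQ F 1 1 1) ≤ χ.ker := Dickson.omega_le_ker χ
  have hsurj : χ.ker.index = 2 := by
    let v : (Fin 1 ⊕ Fin 1) ⊕ Fin 2 → F := Pi.single (Sum.inr 0) 1
    have hv : minusQ F 1 1 1 v ≠ 0 := by
      rw [coe_minusQ]; simp [v, Cfsg.quadFormMinus]
    exact Orth.index_ker_eq_two χ (Dickson.dickson_refl _ hv)
  have heq : Cfsg.Omega F ⇑(minusQ F 1 1 1) = χ.ker := by
    refine le_antisymm hle (Subgroup.relIndex_eq_one.1 ?_)
    have := Subgroup.relIndex_mul_index hle
    rw [hsurj, hidx] at this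
    omega
  rw [heq, MonoidHom.mem_ker]

set_option maxHeartbeats 400000 in
theorem natCard_omega_classes_minus (k : ℕ) {a b : F} (hab : Classical.BinAniso a b) :
    Nat.card {C : ConjClasses ↥(Cfsg.Omega F ⇑(minusQ F k a b)) //
      ∃ g : ↥(Cfsg.Omega F ⇑(minusQ F k a b)), ConjClasses.mk g = C ∧ orderOf g = 2}
      = (k + 1) / 2 + k / 2 := by
  haveI : PerfectRing F 2 := PerfectRing.ofFiniteOfIsReduced 2 F
  have hQ := minusQ_nondegenerate hab k
  have hA := isAlt_polar (minusQ F k a b)
  set S := orthSetting (minusQ F k a b) hQ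
  have hdim : Module.finrank F ((Fin k ⊕ Fin k) ⊕ Fin 2 → F) = 2 * k + 2 := by simp; omega
  have bound : ∀ {s : ℕ} {ε : Bool} {r : Fin s → (Fin k ⊕ Fin k) ⊕ Fin 2 → F},
      IsoFrame (QuadraticMap.polarBilin (minusQ F k a b)) r → FrameValues (minusQ F k a b) ε r →
      (ε = true → Even s) →
      s ≤ (if ε then k else k + 1) ∧ (ε = false ∨ s + s < Module.finrank F ((Fin k ⊕ Fin k) ⊕ Fin 2 → F)) := by
    intro s ε r hr hv he
    have h2 := hr.two_mul_le hQ
    cases ε with
    | false =>
      refine ⟨?_, Or.inl rfl⟩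
      simp only [Bool.false_eq_true, if_false]
      omega
    | true =>
      have := frame_true_le_minus hab hr hv (he rfl)
      exact ⟨by simpa using this, Or.inr (by omega)⟩
  let f : ↥(Cfsg.Omega F ⇑(minusQ F k a b)) → ℕ × Bool := fun g => S.invariant g.1
  rw [natCard_involution_classes f (evenTypeSet (k + 1) k) ?_ ?_ ?_ ?_, card_evenTypeSet]
  · intro c g _
    exact S.invariant_conj c.1 g.1
  · intro g hg
    show S.invariant g.1 ∈ _
    obtain ⟨s, ε, r, hr, he, hs, hadm, hx, hi⟩ := S.exists_standard hA hQ g.1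
      (by rwa [Subgroup.orderOf_coe])
    rw [hi, evenTypeSet, Finset.mem_filter, mem_typeSet]
    have hd := dickson_eq hQ g.1 hr hx
    rw [(mem_omega_minus_iff k hab g.1).1 g.2] at hd
    exact ⟨⟨hs, he, (bound hr hadm he).1⟩, (neg_one_pow_eq_one_iff_even (R := ℤˣ) (by decide)).1 hd.symm⟩
  · intro g g' hg hg' h
    obtain ⟨s, ε, r, hr, he, hs, hadm, hx, hi⟩ := S.exists_standard hA hQ g.1
      (by rwa [Subgroup.orderOf_coe])
    obtain ⟨s', ε', r', hr', -, -, hadm', hx', hi'⟩ := S.exists_standard hA hQ g'.1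
      (by rwa [Subgroup.orderOf_coe])
    obtain ⟨rfl, rfl⟩ : s = s' ∧ ε = ε' := Prod.ext_iff.1 (hi.symm.trans (h.trans hi'))
    obtain ⟨c, hc, hcr⟩ := exists_move_dickson hQ hr hr' hadm hadm' hs (bound hr hadm he).2
    exact isConj_in_omega hQ ((mem_omega_minus_iff k hab c).2 hc) hx hx' hcr
  · rintro ⟨s, ε⟩ hse
    rw [evenTypeSet, Finset.mem_filter, mem_typeSet] at hse
    obtain ⟨⟨hs, he, hb⟩, hev⟩ := hse
    obtain ⟨r, hr, hv⟩ := exists_frame_minus ε a b hb he
    obtain ⟨g, hg⟩ := S.realise ε r hr he hv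
    have hgo : g ∈ Cfsg.Omega F ⇑(minusQ F k a b) := by
      rw [mem_omega_minus_iff k hab, dickson_eq hQ g hr (ε := ε) (fun x => by rw [hg]; rfl)]
      exact Even.neg_one_pow hev
    exact ⟨⟨g, hgo⟩, (Subgroup.orderOf_mk g hgo).trans (orderOf_realised hQ hs hg),
      invariant_realised hQ hs he hg⟩

/-! ### The plus case -/

section Plus

variable {m : ℕ}

/-- class of the image of `g - 1` when it is maximal totally singular, else `1` -/
noncomputable def imageSign (g : ↥(Cfsg.isometryGroup F ⇑(plusQ F m))) : ℤˣ :=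
  if (orthSetting _ (plusQ_nondegenerate m)).invariant g = (m, true) then
    Parity.par (LinearMap.ker (LinearMap.funLeft F F (Sum.inr : Fin m → Fin m ⊕ Fin m)))
      (LinearMap.range (((orthSetting _ (plusQ_nondegenerate m)).act g).toLinearMap + LinearMap.id))
  else 1

theorem isLagr_span {r : Fin m → Fin m ⊕ Fin m → F} (he : Even m)
    (hr : IsoFrame (QuadraticMap.polarBilin (plusQ F m)) r) (hv : FrameValues (plusQ F m) true r) :
    Parity.IsLagr (plusQ F m) (Submodule.span F (Set.range r)) where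
  singular u hu := by
    obtain ⟨x, rfl⟩ := (Submodule.mem_span_range_iff_exists_fun F).1 hu
    rw [quad_sum_orth (fun _ _ => rfl) hr]
    exact Finset.sum_eq_zero fun i _ => by rw [hv, if_neg (typePerm_true_ne he i), mul_zero]
  dim := by rw [finrank_span_eq_card hr.li]; simp; omega

theorem range_act_add_id {g : ↥(Cfsg.isometryGroup F ⇑(plusQ F m))} {s : ℕ} {ε : Bool}
    {r : Fin s → Fin m ⊕ Fin m → F} (hr : IsoFrame (QuadraticMap.polarBilin (plusQ F m)) r)
    (hx : ∀ x, (orthSetting _ (plusQ_nondegenerate m)).act g x =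
      x + nilMap (QuadraticMap.polarBilin (plusQ F m)) ε r x) :
    LinearMap.range (((orthSetting _ (plusQ_nondegenerate m)).act g).toLinearMap + LinearMap.id)
      = Submodule.span F (Set.range r) := by
  rw [← range_nilMap (ε := ε) (plusQ_nondegenerate m) hr.li]
  congr 1
  refine LinearMap.ext fun x => ?_
  show (orthSetting _ (plusQ_nondegenerate m)).act g x + x = _
  rw [hx, add_comm x, add_assoc, add_self_vec (K := F), add_zero]

theorem par_image (c : ↥(Cfsg.isometryGroup F ⇑(plusQ F m))) {R : Submodule F (Fin m ⊕ Fin m → F)}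
    (hR : Parity.IsLagr (plusQ F m) R) :
    Parity.par (LinearMap.ker (LinearMap.funLeft F F (Sum.inr : Fin m → Fin m ⊕ Fin m)))
        (R.map ((orthSetting _ (plusQ_nondegenerate m)).act c).toLinearMap)
      = OmegaPlusLevi.classSign F m c *
        Parity.par (LinearMap.ker (LinearMap.funLeft F F (Sum.inr : Fin m → Fin m ⊕ Fin m))) R := by
  have hU := PlusClass.isLagr_stdLagr (F := F) m
  have hpres : ∀ v, plusQ F m ((orthSetting _ (plusQ_nondegenerate m)).act c v) = plusQ F m v :=
    fun v => Orth.Q_app c v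
  rw [← Parity.par_mul (plusQ_nondegenerate m) hU (hU.map _ hpres) (hR.map _ hpres),
    Parity.par_map]
  rfl

theorem natCard_omega_classes_plus (hm : 1 ≤ m) (h : Nat.card F ≠ 2 ∨ m ≠ 2) :
    Nat.card {C : ConjClasses ↥(Cfsg.Omega F ⇑(plusQ F m)) //
      ∃ g : ↥(Cfsg.Omega F ⇑(plusQ F m)), ConjClasses.mk g = C ∧ orderOf g = 2}
      = 2 * (m / 2) + (if Even m then 1 else 0) := by
  classical
  haveI : PerfectRing F 2 := PerfectRing.ofFiniteOfIsReduced 2 F
  have hQ := plusQ_nondegenerate (F := F) m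
  have hA := isAlt_polar (plusQ F m)
  set S := orthSetting (plusQ F m) hQ with hS
  have hdim : Module.finrank F (Fin m ⊕ Fin m → F) = m + m := by simp
  have hmem := OmegaPlusLevi.mem_omega_iff_classSign (F := F) h
  have hdick : ∀ g, g ∈ Cfsg.Omega F ⇑(plusQ F m) ↔ Dickson.dickson hQ g = 1 := fun g =>
    Dickson.mem_omega_iff_charTwo hQ (Dickson.exceptional_free (h.imp_right fun e => by simp; omega))
      _ (fun v hv => Dickson.dickson_refl hQ hv) g
  -- the two invariants
  let f : ↥(Cfsg.Omega F ⇑(plusQ F m)) → (ℕ × Bool) × ℤˣ := fun g => (S.invariant g.1, imageSign g.1)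
  let T : Finset ((ℕ × Bool) × ℤˣ) := (evenTypeSet m m).image (fun p => (p, 1)) ∪
    (if Even m then {((m, true), -1)} else ∅)
  have bound : ∀ {s : ℕ} {r : Fin s → Fin m ⊕ Fin m → F},
      IsoFrame (QuadraticMap.polarBilin (plusQ F m)) r → s ≤ m := fun hr => by
    have := hr.two_mul_le hQ
    omega
  have hT : T.card = 2 * (m / 2) + (if Even m then 1 else 0) := by
    rw [Finset.card_union_of_disjoint, Finset.card_image_of_injective, card_evenTypeSet]
    · split_ifs <;> simp <;> omega
    · intro x y e; simpa using e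
    · rw [Finset.disjoint_left]
      intro p hp hp'
      obtain ⟨q, -, rfl⟩ := Finset.mem_image.1 hp
      split_ifs at hp' with hev
      · simp only [Finset.mem_singleton, Prod.mk.injEq] at hp'
        exact absurd hp'.2 (by decide)
      · exact absurd hp' (Finset.notMem_empty _)
  rw [natCard_involution_classes f T ?_ ?_ ?_ ?_, hT]
  · intro c g hg
    obtain ⟨s, ε, r, hr, he, hs, hadm, hx, hi⟩ := S.exists_standard hA hQ g.1
      (by rwa [Subgroup.orderOf_coe])
    refine Prod.ext (S.invariant_conj c.1 g.1) ?_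
    show imageSign (c.1 * g.1 * c.1⁻¹) = imageSign g.1
    unfold imageSign
    rw [← hS, S.invariant_conj]
    split_ifs with heq
    · rw [hi] at heq
      obtain ⟨rfl, rfl⟩ := Prod.mk.inj heq
      have hact : (S.act (c.1 * g.1 * c.1⁻¹)).toLinearMap + LinearMap.id
          = ((S.act c.1).toLinearMap.comp ((S.act g.1).toLinearMap + LinearMap.id)).comp
            (S.act c.1).symm.toLinearMap := LinearMap.ext fun x => by
        simp [map_mul, map_inv]
      rw [hact, LinearMap.range_comp_of_range_eq_top _ (S.act c.1).symm.range, LinearMap.range_comp,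
        range_act_add_id hr hx, par_image c.1 (isLagr_span (he rfl) hr hadm),
        OmegaPlusLevi.omega_le_classSign c.2, one_mul]
    · rfl
  · intro g hg
    obtain ⟨s, ε, r, hr, he, hs, hadm, hx, hi⟩ := S.exists_standard hA hQ g.1
      (by rwa [Subgroup.orderOf_coe])
    have hd := dickson_eq hQ g.1 hr hx
    rw [(hdick g.1).1 g.2] at hd
    have hev : Even s := (neg_one_pow_eq_one_iff_even (R := ℤˣ) (by decide)).1 hd.symm
    have hin : (s, ε) ∈ evenTypeSet m m := by
      rw [evenTypeSet, Finset.mem_filter, mem_typeSet, ite_self]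
      exact ⟨⟨hs, he, bound hr⟩, hev⟩
    show (S.invariant g.1, imageSign g.1) ∈ T
    rw [hi, Finset.mem_union]
    rcases Int.units_eq_one_or (imageSign g.1) with h1 | h1
    · exact Or.inl (Finset.mem_image.2 ⟨_, hin, by rw [h1]⟩)
    · have hst : (s, ε) = (m, true) := by
        by_contra hne
        unfold imageSign at h1
        rw [← hS, hi, if_neg hne] at h1
        exact absurd h1 (by decide)
      obtain ⟨rfl, rfl⟩ := Prod.mk.inj hst
      exact Or.inr (by rw [if_pos hev, h1]; exact Finset.mem_singleton_self _)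
  · intro g g' hg hg' hff
    obtain ⟨s, ε, r, hr, he, hs, hadm, hx, hi⟩ := S.exists_standard hA hQ g.1
      (by rwa [Subgroup.orderOf_coe])
    obtain ⟨s', ε', r', hr', -, -, hadm', hx', hi'⟩ := S.exists_standard hA hQ g'.1
      (by rwa [Subgroup.orderOf_coe])
    obtain ⟨hinv, hsign⟩ := Prod.ext_iff.1 hff
    obtain ⟨rfl, rfl⟩ : s = s' ∧ ε = ε' := Prod.ext_iff.1 (hi.symm.trans (hinv.trans hi'))
    by_cases hst : (s, ε) = (m, true)
    · obtain ⟨rfl, rfl⟩ := Prod.mk.inj hst
      obtain ⟨c, hcr⟩ := S.move true r r' hr hr' hadm hadm'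
      refine isConj_in_omega hQ ((hmem c).2 ?_) hx hx' hcr
      have himg : Submodule.span F (Set.range r') =
          (Submodule.span F (Set.range r)).map (S.act c).toLinearMap := by
        rw [Submodule.map_span, ← Set.range_comp]
        exact congrArg (fun f => Submodule.span F (Set.range f)) (funext fun i => (hcr i).symm)
      change imageSign g.1 = imageSign g'.1 at hsign
      unfold imageSign at hsign
      rw [← hS, hi, hi', if_pos rfl, if_pos rfl, range_act_add_id hr hx, range_act_add_id hr' hx', himg,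
        par_image c (isLagr_span (he rfl) hr hadm)] at hsign
      exact (mul_eq_right.1 hsign.symm)
    · have hcond : ε = false ∨ s + s < Module.finrank F (Fin m ⊕ Fin m → F) := by
        have := bound hr
        cases ε with
        | false => exact Or.inl rfl
        | true =>
          refine Or.inr ?_
          have : s ≠ m := fun e => hst (by rw [e])
          omega
      obtain ⟨c, hc, hcr⟩ := exists_move_dickson hQ hr hr' hadm hadm' hs hcond
      exact isConj_in_omega hQ ((hdick c).2 hc) hx hx' hcr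
  · rintro ⟨⟨s, ε⟩, σ⟩ hse
    have hdata : (s, ε) ∈ evenTypeSet m m ∧ (σ = 1 ∨ (s, ε) = (m, true)) := by
      rcases Finset.mem_union.1 hse with hse | hse
      · obtain ⟨q, hq, he'⟩ := Finset.mem_image.1 hse
        obtain ⟨rfl, rfl⟩ := Prod.mk.inj he'
        exact ⟨hq, Or.inl rfl⟩
      · split_ifs at hse with hev
        · obtain ⟨hp, -⟩ := Prod.mk.inj (Finset.mem_singleton.1 hse)
          refine ⟨?_, Or.inr hp⟩
          rw [show (s, ε) = (m, true) from hp, evenTypeSet, Finset.mem_filter, mem_typeSet]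
          exact ⟨⟨hm, fun _ => hev, le_rfl⟩, hev⟩
        · exact absurd hse (Finset.notMem_empty _)
    obtain ⟨hin, hσ⟩ := hdata
    rw [evenTypeSet, Finset.mem_filter, mem_typeSet, ite_self] at hin
    obtain ⟨⟨hs, he, hb⟩, hev⟩ := hin
    -- a frame with the prescribed sign
    obtain ⟨r, hr, hv, hsgn⟩ : ∃ r : Fin s → Fin m ⊕ Fin m → F,
        IsoFrame (QuadraticMap.polarBilin (plusQ F m)) r ∧ FrameValues (plusQ F m) ε r ∧
        ((s, ε) = (m, true) →
          Parity.par (LinearMap.ker (LinearMap.funLeft F F (Sum.inr : Fin m → Fin m ⊕ Fin m)))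
            (Submodule.span F (Set.range r)) = σ) := by
      obtain ⟨r, hr, hv⟩ := exists_frame_plus (F := F) ε hb he
      by_cases hst : (s, ε) = (m, true)
      swap
      · exact ⟨r, hr, hv, fun e => absurd e hst⟩
      obtain ⟨rfl, rfl⟩ := Prod.mk.inj hst
      by_cases h1 : Parity.par (LinearMap.ker (LinearMap.funLeft F F (Sum.inr : Fin s → Fin s ⊕ Fin s)))
            (Submodule.span F (Set.range r)) = σ
      · exact ⟨r, hr, hv, fun _ => h1⟩
      · let v : Fin s ⊕ Fin s → F := Pi.single (Sum.inl ⟨0, hm⟩) 1 + Pi.single (Sum.inr ⟨0, hm⟩) 1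
        have hv0 : plusQ F s v ≠ 0 := by
          rw [coe_plusQ]; simp [v, Cfsg.quadFormPlus, Pi.single_apply]
        set c := refl (plusQ F s) v hv0
        refine ⟨fun i => S.act c (r i), ⟨?_, fun i j => ?_⟩, fun i => ?_, fun _ => ?_⟩
        · exact hr.li.map' (S.act c).toLinearMap (LinearEquiv.ker _)
        · rw [S.preserves]; exact hr.orth i j
        · rw [show plusQ F s (S.act c (r i)) = plusQ F s (r i) from Orth.Q_app c (r i)]
          exact hv i
        · have himg : Submodule.span F (Set.range fun i => S.act c (r i)) =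
              (Submodule.span F (Set.range r)).map (S.act c).toLinearMap := by
            rw [Submodule.map_span, ← Set.range_comp]; rfl
          rw [himg, par_image c (isLagr_span (he rfl) hr hv),
            show OmegaPlusLevi.classSign F s c = -1 from Dickson.classChar_refl _ _ hv0]
          rcases Int.units_eq_one_or σ with e | e <;>
            rcases Int.units_eq_one_or (Parity.par (LinearMap.ker
              (LinearMap.funLeft F F (Sum.inr : Fin s → Fin s ⊕ Fin s)))
              (Submodule.span F (Set.range r))) with e' | e' <;>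
            rw [e, e'] <;> first | rfl | exact absurd (e'.trans e.symm) h1
    obtain ⟨g, hg⟩ := S.realise ε r hr he hv
    have hx : ∀ x, S.act g x = x + nilMap (QuadraticMap.polarBilin (plusQ F m)) ε r x :=
      fun x => by rw [hg]; rfl
    have hgo : g ∈ Cfsg.Omega F ⇑(plusQ F m) := by
      rw [hdick, dickson_eq hQ g hr hx]
      exact Even.neg_one_pow hev
    refine ⟨⟨g, hgo⟩, (Subgroup.orderOf_mk g hgo).trans (orderOf_realised hQ hs hg), ?_⟩
    show (S.invariant g, imageSign g) = ((s, ε), σ)
    have hinv : S.invariant g = (s, ε) := invariant_realised hQ hs he hg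
    refine Prod.ext hinv ?_
    show imageSign g = σ
    unfold imageSign
    rw [← hS, hinv]
    split_ifs with hst
    · rw [range_act_add_id hr hx, hsgn hst]
    · exact (hσ.resolve_right hst).symm

end Plus

end Cfsg.Agent.Lib.InvolutionTwo
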