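import Mathlib
import Cfsg.Agent.Lib.InvolutionTwo.Classify
import Cfsg.Agent.Lib.Forms.Symplectic

/-!
The setting of involution classes for the symplectic group in characteristic two.
-/

set_option autoImplicit false

namespace Cfsg.Agent.Lib.InvolutionTwo

open Forms

variable {F : Type*} [Field F] [CharP F 2] (m : ℕ)

/-- The natural action of the symplectic group. -/
noncomputable def spAct : ↥(Matrix.symplecticGroup (Fin m) F) →*
    ((Fin m ⊕ Fin m → F) ≃ₗ[F] (Fin m ⊕ Fin m → F)) :=
  (glEquiv (Fin m ⊕ Fin m) F).toMonoidHom.comp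
    (MonoidHom.toHomUnits (Matrix.symplecticGroup (Fin m) F).subtype)

theorem spAct_apply (g : ↥(Matrix.symplecticGroup (Fin m) F)) (v : Fin m ⊕ Fin m → F) :
    spAct m g v = Matrix.mulVec (g : Matrix (Fin m ⊕ Fin m) (Fin m ⊕ Fin m) F) v := rfl

theorem sympBilin_nondegenerate : (sympBilin m F).Nondegenerate :=
  ⟨(sympBilin_goodForm (F := F) (m := m)).nondeg, (sympBilin_goodForm (F := F) (m := m)).nondeg_right⟩

theorem spAct_spMk (e : (Fin m ⊕ Fin m → F) ≃ₗ[F] (Fin m ⊕ Fin m → F))
    (he : ∀ u v, Cfsg.sympForm m F (e u) (e v) = Cfsg.sympForm m F u v) : spAct m (spMk e he) = e :=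
  LinearEquiv.ext fun v => by rw [spAct_apply]; exact spMk_mulVec e he v

/-- the symplectic group as a setting -/
noncomputable def sympSetting :
    InvolutionSetting (sympBilin m F) ↥(Matrix.symplecticGroup (Fin m) F) where
  act := spAct m
  act_injective := fun g h e => Subtype.ext (Matrix.ext_iff_mulVec.mpr fun v => by
    rw [← spAct_apply, ← spAct_apply, e])
  preserves g x y := by
    rw [sympBilin_apply, sympBilin_apply, spAct_apply, spAct_apply]
    exact mem_symplecticGroup_iff_preserves.1 g.2 x y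
  adm _ _ := True
  adm_of_involution _ _ _ _ _ _ _ := trivial
  realise ε r h _ _ := ⟨spMk (invEquiv (sympBilin m F) ε r h) (fun u v => by
      rw [← sympBilin_apply, ← sympBilin_apply]
      exact invEquiv_preserves sympBilin_isAlt h u v), spAct_spMk m _ _⟩
  move ε r r' hr hr' _ _ := by
    obtain ⟨g, hg, hgr⟩ := (sympBilin_goodForm (F := F) (m := m)).witt_family r r' hr.li hr'.li
      (fun i j => by rw [hr.orth, hr'.orth])
    refine ⟨spMk g (fun u v => by rw [← sympBilin_apply, ← sympBilin_apply]; exact hg u v),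
      fun i => ?_⟩
    rw [spAct_spMk]
    exact hgr i

theorem invariant_fst (g : ↥(Matrix.symplecticGroup (Fin m) F)) :
    ((sympSetting m).invariant g).1 =
      ((g : Matrix (Fin m ⊕ Fin m) (Fin m ⊕ Fin m) F) - 1).rank := by
  show Module.finrank F (LinearMap.range ((spAct m g : (Fin m ⊕ Fin m → F) →ₗ[F] (Fin m ⊕ Fin m → F)) + LinearMap.id)) = _
  have e : (spAct m g : (Fin m ⊕ Fin m → F) →ₗ[F] (Fin m ⊕ Fin m → F)) + LinearMap.id =
      ((g : Matrix (Fin m ⊕ Fin m) (Fin m ⊕ Fin m) F) - 1).mulVecLin := by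
    refine LinearMap.ext fun v => ?_
    show spAct m g v + v = _
    rw [Matrix.mulVecLin_apply, Matrix.sub_mulVec, Matrix.one_mulVec, spAct_apply]
    exact funext fun i => by simp [CharTwo.sub_eq_add]
  exact congrArg (fun L : (Fin m ⊕ Fin m → F) →ₗ[F] (Fin m ⊕ Fin m → F) =>
    Module.finrank F (LinearMap.range L)) e

variable [Fintype F]

theorem invariant_snd_iff (g g' : ↥(Matrix.symplecticGroup (Fin m) F))
    (hcard : Nat.card {v : Fin m ⊕ Fin m → F // Cfsg.sympForm m F v
        (Matrix.mulVec (g : Matrix (Fin m ⊕ Fin m) (Fin m ⊕ Fin m) F) v) = 0} =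
      Nat.card {v : Fin m ⊕ Fin m → F // Cfsg.sympForm m F v
        (Matrix.mulVec (g' : Matrix (Fin m ⊕ Fin m) (Fin m ⊕ Fin m) F) v) = 0})
    (h : ∀ x, sympBilin m F x ((sympSetting m).act g x) = 0) :
    ∀ x, sympBilin m F x ((sympSetting m).act g' x) = 0 := by
  classical
  intro x
  by_contra hx
  have h1 : Nat.card {v : Fin m ⊕ Fin m → F // Cfsg.sympForm m F v
      (Matrix.mulVec (g : Matrix (Fin m ⊕ Fin m) (Fin m ⊕ Fin m) F) v) = 0} =
      Nat.card (Fin m ⊕ Fin m → F) :=
    Nat.card_congr (Equiv.subtypeUnivEquiv fun v => by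
      have := h v
      rw [sympBilin_apply] at this
      exact this)
  have h2 : Nat.card {v : Fin m ⊕ Fin m → F // Cfsg.sympForm m F v
      (Matrix.mulVec (g' : Matrix (Fin m ⊕ Fin m) (Fin m ⊕ Fin m) F) v) = 0} <
      Nat.card (Fin m ⊕ Fin m → F) := by
    rw [Nat.card_eq_fintype_card, Nat.card_eq_fintype_card]
    exact Fintype.card_subtype_lt (x := x) (fun e => hx (by rw [sympBilin_apply]; exact e))
  omega

end Cfsg.Agent.Lib.InvolutionTwo
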